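import Mathlib

/-!
# Landau's theorem: bounded class number bounds the group order
-/

set_option autoImplicit false

namespace Cfsg.Agent.Lib.BrauerFeit

theorem exists_bound_egyptian (k : ℕ) : ∀ q : ℚ, ∃ N : ℕ, ∀ s : Multiset ℕ, s.card ≤ k →
    (∀ n ∈ s, 0 < n) → (s.map fun n : ℕ => (1 : ℚ) / n).sum = q → ∀ n ∈ s, n ≤ N := by
  induction k with
  | zero =>
    intro q
    refine ⟨0, fun s hs _ _ n hn => ?_⟩
    rw [Multiset.card_eq_zero.1 (Nat.le_zero.1 hs)] at hn
    simp at hn
  | succ k ih =>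
    intro q
    choose N hN using ih
    refine ⟨max ⌈((k : ℚ) + 1) / q⌉₊
      ((Finset.range (⌈((k : ℚ) + 1) / q⌉₊ + 1)).sup fun m : ℕ => N (q - 1 / m)),
      fun s hs hpos hsum n hn => ?_⟩
    obtain ⟨m, hm, hmin⟩ := s.toFinset.exists_min_image id ⟨n, Multiset.mem_toFinset.2 hn⟩
    rw [Multiset.mem_toFinset] at hm
    have hm0 : (0 : ℚ) < m := by exact_mod_cast hpos m hm
    have hq : q ≤ ((k : ℚ) + 1) / m := by
      rw [← hsum]
      refine le_trans (Multiset.sum_le_card_nsmul _ ((1 : ℚ) / m) fun x hx => ?_) ?_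
      · obtain ⟨j, hj, rfl⟩ := Multiset.mem_map.1 hx
        exact one_div_le_one_div_of_le hm0 (by exact_mod_cast hmin j (Multiset.mem_toFinset.2 hj))
      · rw [Multiset.card_map, nsmul_eq_mul, mul_one_div]
        gcongr
        exact_mod_cast hs
    have hq0 : 0 < q := by
      rw [← hsum, ← Multiset.cons_erase hm, Multiset.map_cons, Multiset.sum_cons]
      have h1 : (0 : ℚ) ≤ ((s.erase m).map fun n : ℕ => (1 : ℚ) / n).sum :=
        Multiset.sum_nonneg fun x hx => by
          obtain ⟨j, -, rfl⟩ := Multiset.mem_map.1 hx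
          positivity
      have h2 : (0 : ℚ) < 1 / m := by positivity
      linarith
    have hmle : m ≤ ⌈((k : ℚ) + 1) / q⌉₊ := by
      have : (m : ℚ) ≤ ((k : ℚ) + 1) / q := by
        rw [le_div_iff₀ hq0, mul_comm]
        exact (le_div_iff₀ hm0).1 hq
      exact_mod_cast this.trans (Nat.le_ceil _)
    rw [← Multiset.cons_erase hm, Multiset.mem_cons] at hn
    rcases hn with rfl | hn
    · exact le_max_of_le_left hmle
    · refine le_max_of_le_right (le_trans ?_ (Finset.le_sup (f := fun m : ℕ => N (q - 1 / m))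
        (Finset.mem_range.2 (Nat.lt_succ_of_le hmle))))
      refine hN _ (s.erase m) ?_ (fun j hj => hpos j (Multiset.mem_of_mem_erase hj)) ?_ n hn
      · rw [Multiset.card_erase_of_mem hm]
        exact Nat.pred_le_iff.2 hs
      · rw [← hsum]
        conv_rhs => rw [← Multiset.cons_erase hm, Multiset.map_cons, Multiset.sum_cons]
        ring

/-- Landau: the order of a finite group is bounded in terms of its class number. -/
theorem exists_bound_card_of_classNumber (k : ℕ) : ∃ N : ℕ, ∀ (G : Type*) [Group G] [Finite G],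
    Nat.card (ConjClasses G) ≤ k → Nat.card G ≤ N := by
  obtain ⟨N, hN⟩ := exists_bound_egyptian k 1
  refine ⟨N, fun G _ _ hk => ?_⟩
  classical
  cases nonempty_fintype (ConjClasses G)
  let f : ConjClasses G → ℕ := fun c => Nat.card G / c.carrier.ncard
  have hmul : ∀ c : ConjClasses G, c.carrier.ncard * f c = Nat.card G := by
    intro c
    obtain ⟨g, rfl⟩ := ConjClasses.exists_rep c
    refine Nat.mul_div_cancel' ?_
    rw [← ConjAct.orbit_eq_carrier_conjClasses, ← MulAction.index_stabilizer]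
    exact Subgroup.index_dvd_card _
  have hc0 : ∀ c : ConjClasses G, 0 < c.carrier.ncard := fun c => by
    obtain ⟨g, rfl⟩ := ConjClasses.exists_rep c
    exact (Set.ncard_pos).2 ⟨g, ConjClasses.mem_carrier_mk⟩
  have hf0 : ∀ c : ConjClasses G, 0 < f c := fun c =>
    Nat.pos_of_mul_pos_left (a := c.carrier.ncard) (by rw [hmul]; exact Nat.card_pos)
  have hsum : ((Finset.univ.val.map f).map fun n : ℕ => (1 : ℚ) / n).sum = 1 := by
    rw [Multiset.map_map]
    show ∑ c : ConjClasses G, (1 : ℚ) / f c = 1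
    have hG : (Nat.card G : ℚ) ≠ 0 := Nat.cast_ne_zero.2 Nat.card_pos.ne'
    have h1 : ∀ c : ConjClasses G, (1 : ℚ) / f c = (c.carrier.ncard : ℚ) / Nat.card G := fun c => by
      have : (f c : ℚ) ≠ 0 := Nat.cast_ne_zero.2 (hf0 c).ne'
      rw [div_eq_div_iff this hG, one_mul, ← hmul c]
      push_cast
      ring
    rw [Finset.sum_congr rfl fun c _ => h1 c, ← Finset.sum_div, ← Nat.cast_sum,
      ← finsum_eq_sum_of_fintype, Group.sum_card_conj_classes_eq_card, div_self hG]
  have h1 : f (ConjClasses.mk 1) = Nat.card G := by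
    have hcar : (ConjClasses.mk (1 : G)).carrier = {1} := by
      ext x
      rw [ConjClasses.mem_carrier_iff_mk_eq, ConjClasses.mk_eq_mk_iff_isConj, Set.mem_singleton_iff]
      exact isConj_one_left
    have := hmul (ConjClasses.mk 1)
    rwa [hcar, Set.ncard_singleton, one_mul] at this
  rw [← h1]
  refine hN _ ?_ (fun n hn => ?_) hsum _ (Multiset.mem_map_of_mem f (Finset.mem_univ_val _))
  · rw [Multiset.card_map]
    rw [Nat.card_eq_fintype_card] at hk
    exact hk
  · obtain ⟨c, -, rfl⟩ := Multiset.mem_map.1 hn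
    exact hf0 c

end Cfsg.Agent.Lib.BrauerFeit
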